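import Cfsg.Agent.Lib.Block.PairCriterion
import Cfsg.Agent.Lib.Block.FirstMain
import Cfsg.Agent.Lib.Block.SylowCount
import Cfsg.Agent.Lib.Block.InflateDerived

/-!
# Blocks of full defect when centralisers of defect groups are nearly trivial
-/

set_option autoImplicit false
set_option linter.unusedSectionVars false
set_option linter.style.haveILetI false

namespace Cfsg.Agent.Lib.SLBlocks

open Cfsg Cfsg.Agent.Lib.Block Cfsg.Agent.Lib.BrauerPairs

universe u

variable {p : ℕ} {M : Ideal AlgInt} [M.IsPrime] {G : Type u} [Group G] [Finite G]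

/-- A `p`-subgroup normalised by the normaliser of a defect group lies in it. -/
theorem le_defect_of_normalizer_le (hM : IsPModular p M) {B : Set (IrrCharacter G)}
    (hB : IsPBlock M B) {D A : Subgroup G} (hD : IsDefectGroup p M B D) (hA : IsPGroup p A)
    (hN : Subgroup.normalizer (D : Set G) ≤ Subgroup.normalizer (A : Set G)) : A ≤ D := by
  haveI : Fact p.Prime := ⟨hM.1⟩
  have hDp := (IsDefectGroup.props hM hB hD).1
  set N := Subgroup.normalizer (D : Set G) with hNdef
  have hDA : D ≤ Subgroup.normalizer (A : Set G) := Subgroup.le_normalizer.trans hN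
  set P := D ⊔ A with hP
  have hPp : IsPGroup p P := hDp.to_sup_of_normal_right' hA hDA
  obtain ⟨b, hb⟩ := exists_inducing_block hM hDp (Subgroup.le_normalizer (H := D))
    (centralizer_le_normalizer_self D) le_rfl hB hD le_rfl
  have hbD := isDefectGroup_normalizer_of_induced hM hb hD
  haveI : (P.subgroupOf N).Normal := by
    refine Subgroup.normal_subgroupOf_of_le_normalizer ?_
    intro g hg
    have h1 : D.map (MulAut.conj g).toMonoidHom = D :=
      sj_eq_of_mem_normalizer hg
    have h2 : A.map (MulAut.conj g).toMonoidHom = A :=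
      sj_eq_of_mem_normalizer (hN hg)
    rw [Subgroup.mem_normalizer_iff]
    intro x
    have h3 : P.map (MulAut.conj g).toMonoidHom = P := by rw [hP, Subgroup.map_sup, h1, h2]
    constructor
    · intro hx
      rw [← h3]
      exact ⟨x, hx, rfl⟩
    · intro hx
      rw [← h3] at hx
      obtain ⟨y, hy, he⟩ := hx
      have : y = x := by simpa using he
      exact this ▸ hy
  have hle := le_defect_of_normal hM hb.1 (Q := P.subgroupOf N) hPp.comap_subtype hbD
  have hPD : P ⊓ N ≤ D := fun x hx => hle (show (⟨x, hx.2⟩ : N) ∈ P.subgroupOf N from hx.1)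
  by_contra hAD
  have hlt : D.subgroupOf P < ⊤ := by
    refine lt_top_iff_ne_top.2 fun h => hAD ?_
    exact le_sup_right.trans (Subgroup.subgroupOf_eq_top.1 h)
  haveI := hPp.isNilpotent
  have hgrow := Group.normalizerCondition_of_isNilpotent (D.subgroupOf P) hlt
  obtain ⟨x, hx, hxD⟩ := SetLike.exists_of_lt hgrow
  refine hxD (hPD ⟨x.2, ?_⟩)
  show (x : G) ∈ Subgroup.normalizer (D : Set G)
  rw [Subgroup.mem_normalizer_iff]
  intro y
  rw [Subgroup.mem_normalizer_iff] at hx
  constructor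
  · intro hy
    exact (hx ⟨y, le_sup_left (b := A) hy⟩).1 hy
  · intro hy
    have hy' : y ∈ P := by
      have h1 : (x : G) * y * (x : G)⁻¹ ∈ P := le_sup_left (b := A) hy
      have := P.mul_mem (P.mul_mem (P.inv_mem x.2) h1) x.2
      simpa [mul_assoc] using this
    exact (hx ⟨y, hy'⟩).2 hy

/-- Regular elements of a centraliser which is the centre times a `p`-group are central. -/
theorem regular_mem_center [Fact p.Prime] {S : Subgroup G} (hS : IsPGroup p S) {c : G}
    (hc : ∃ z ∈ Subgroup.center G, z⁻¹ * c ∈ S) (hreg : ¬ p ∣ orderOf c) :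
    c ∈ Subgroup.center G := by
  obtain ⟨z, hz, hzc⟩ := hc
  obtain ⟨k, hk⟩ := hS ⟨_, hzc⟩
  have hk' : (z⁻¹ * c) ^ p ^ k = 1 := congrArg Subtype.val hk
  rw [Commute.mul_pow (Subgroup.mem_center_iff.1 (inv_mem hz) c).symm, inv_pow,
    inv_mul_eq_one] at hk'
  obtain ⟨m, hm⟩ := exists_pow_eq_self_of_coprime
    ((((Fact.out : p.Prime).coprime_iff_not_dvd).2 hreg).pow_left k)
  rw [← hm, ← hk']
  exact pow_mem (pow_mem hz _) _

/-- A `p`-element of `S Z(G)` lies in `S`. -/
theorem mem_of_pElem [Fact p.Prime] {S : Subgroup G} (hS : IsPGroup p S)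
    (hZ : ¬ p ∣ Nat.card (Subgroup.center G)) {g : G}
    (hg : ∃ z ∈ Subgroup.center G, z⁻¹ * g ∈ S) (hgp : ∃ k : ℕ, orderOf g = p ^ k) : g ∈ S := by
  obtain ⟨z, hz, hzg⟩ := hg
  obtain ⟨j, hj⟩ := hS ⟨_, hzg⟩
  have hj' : (z⁻¹ * g) ^ p ^ j = 1 := congrArg Subtype.val hj
  obtain ⟨k, hk⟩ := hgp
  have hk' : g ^ p ^ k = 1 := by rw [← hk, pow_orderOf_eq_one]
  have hz1 : z⁻¹ ^ p ^ (j + k) = 1 := by
    have h1 : (z⁻¹ * g) ^ p ^ (j + k) = 1 := by rw [pow_add, pow_mul, hj', one_pow]
    rwa [Commute.mul_pow (Subgroup.mem_center_iff.1 (inv_mem hz) g).symm,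
      show g ^ p ^ (j + k) = 1 by rw [pow_add, mul_comm, pow_mul, hk', one_pow], mul_one] at h1
  have hz0 : z⁻¹ = 1 := by
    have h2 : orderOf z⁻¹ ∣ Nat.card (Subgroup.center G) := by
      rw [← Subgroup.orderOf_mk z⁻¹ (inv_mem hz)]
      exact orderOf_dvd_natCard _
    have hcop : (p ^ (j + k)).Coprime (Nat.card (Subgroup.center G)) :=
      (((Fact.out : p.Prime).coprime_iff_not_dvd).2 hZ).pow_left _
    exact orderOf_eq_one_iff.1
      (Nat.eq_one_of_dvd_coprimes hcop (orderOf_dvd_of_pow_eq_one hz1) h2)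
  rwa [hz0, one_mul] at hzg

/-- If the centraliser of `Q` is the centre times a part of `Q`, the normaliser fixes every block
of the centraliser. -/
theorem stabilizesBlock_of_centralizer (hM : IsPModular p M) {Q : Subgroup G} (hQ : IsPGroup p Q)
    (hC : ∀ c ∈ Subgroup.centralizer (Q : Set G), ∃ z ∈ Subgroup.center G, z⁻¹ * c ∈ Q)
    {e : CBlock Q} (he : IsPBlock M e) {g : G} (hg : g ∈ Subgroup.normalizer (Q : Set G)) :
    StabilizesBlock (Subgroup.centralizer (Q : Set G)) e g := by
  haveI : Fact p.Prime := ⟨hM.1⟩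
  refine ⟨mem_normalizer_centralizer hg, fun χ hχ =>
    ⟨mapIrr (normEquiv (mem_normalizer_centralizer hg)) χ, ?_,
      (isConjCharOf_iff (mem_normalizer_centralizer hg) χ _).2 rfl⟩⟩
  refine (mem_iff_sameBlock he hχ).2 (sameBlock_of_regular hM fun c hc => ?_)
  have hreg : ¬ p ∣ orderOf (c : G) := by rwa [Subgroup.orderOf_coe]
  have hcz := regular_mem_center hQ (hC c c.2) hreg
  have heq : normEquiv (mem_normalizer_centralizer hg) c = c := Subtype.ext (by
    rw [coe_normEquiv, Subgroup.mem_center_iff.1 hcz g, mul_inv_cancel_right])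
  congr 1
  conv_rhs => rw [← heq, centralChar_mapIrr]

/-- Defect groups with nearly trivial centraliser are Sylow subgroups. -/
theorem defect_full (hM : IsPModular p M) (hZ : ¬ p ∣ Nat.card (Subgroup.center G))
    {B : Set (IrrCharacter G)} (hB : IsPBlock M B) {D : Subgroup G}
    (hD : IsDefectGroup p M B D)
    (hC : ∀ c ∈ Subgroup.centralizer (D : Set G), ∃ z ∈ Subgroup.center G, z⁻¹ * c ∈ D) :
    blockDefect p B = (Nat.card G).factorization p := by
  haveI : Fact p.Prime := ⟨hM.1⟩
  obtain ⟨hDp, hDc, -⟩ := IsDefectGroup.props hM hB hD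
  obtain ⟨e, he⟩ := exists_pair_on_defect hM hB hD
  have hmax := isMaximal_of_card hM he hDc
  obtain ⟨S, hS⟩ := hDp.exists_le_sylow
  have hSD : (S : Subgroup G) = D := by
    by_contra hne
    have hlt : D.subgroupOf (S : Subgroup G) < ⊤ :=
      lt_top_iff_ne_top.2 fun h => hne (le_antisymm (Subgroup.subgroupOf_eq_top.1 h) hS)
    haveI := S.2.isNilpotent
    obtain ⟨x, hx, hxD⟩ := SetLike.exists_of_lt (Group.normalizerCondition_of_isNilpotent _ hlt)
    have hxN : (x : G) ∈ Subgroup.normalizer (D : Set G) := by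
      rw [Subgroup.mem_normalizer_iff]
      intro y
      rw [Subgroup.mem_normalizer_iff] at hx
      constructor
      · intro hy
        exact (hx ⟨y, hS hy⟩).1 hy
      · intro hy
        have hy' : y ∈ (S : Subgroup G) := by
          have := mul_mem (mul_mem (inv_mem x.2) (hS hy)) x.2
          simpa [mul_assoc] using this
        exact (hx ⟨y, hy'⟩).2 hy
    have hxp : ∃ k : ℕ, orderOf (x : G) = p ^ k := by
      obtain ⟨k, hk⟩ := IsPGroup.iff_orderOf.1 S.2 x
      exact ⟨k, by rwa [Subgroup.orderOf_coe]⟩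
    have hmem := mem_of_maximal hM hmax hxN
      (stabilizesBlock_of_centralizer hM hDp hC he.1.2 hxN) hxp
    refine hxD (mem_of_pElem hDp hZ ?_ hxp)
    rw [← SetLike.mem_coe, sup_comm, Subgroup.coe_mul_of_right_le_normalizer_left
      (Subgroup.centralizer (D : Set G)) D
      (fun d hd => mem_normalizer_centralizer (Subgroup.le_normalizer hd))] at hmem
    obtain ⟨c, hc, d, hd, hcd⟩ := hmem
    obtain ⟨z, hz, hzc⟩ := hC c hc
    exact ⟨z, hz, show z⁻¹ * (x : G) ∈ D by rw [← hcd, ← mul_assoc]; exact mul_mem hzc hd⟩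
  have h1 : Nat.card D = p ^ (Nat.card G).factorization p := by
    rw [← hSD]; exact S.card_eq_multiplicity
  rw [hDc] at h1
  exact Nat.pow_right_injective hM.1.two_le h1

/-- Blocks of an abelian centraliser of the shape centre times `p`-group. -/
theorem card_blocks_centralizer (hM : IsPModular p M) {S : Subgroup G} (hS : IsPGroup p S)
    (hZ : ¬ p ∣ Nat.card (Subgroup.center G))
    (hC : ∀ c ∈ Subgroup.centralizer (S : Set G), ∃ z ∈ Subgroup.center G, z⁻¹ * c ∈ S) :
    Nat.card {e : CBlock S // IsPBlock M e} = Nat.card (Subgroup.center G) := by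
  haveI : Fact p.Prime := ⟨hM.1⟩
  set C := Subgroup.centralizer (S : Set G) with hCdef
  have hcomm : ∀ a b : C, a * b = b * a := by
    intro a b
    obtain ⟨z, hz, hzb⟩ := hC b b.2
    refine Subtype.ext ?_
    show (a : G) * b = b * a
    have h1 := Subgroup.mem_centralizer_iff.1 a.2 _ hzb
    have h2 := Subgroup.mem_center_iff.1 hz a
    calc (a : G) * b = (a * z) * (z⁻¹ * b) := by group
      _ = z * (a * (z⁻¹ * b)) := by rw [h2, mul_assoc]
      _ = b * a := by rw [← h1]; group
  obtain ⟨P⟩ : Nonempty (Sylow p C) := inferInstance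
  haveI : (P : Subgroup C).Normal := ⟨fun x hx y => by
    rwa [hcomm y x, mul_inv_cancel_right]⟩
  rw [card_blocks_of_normal_sylow hM P]
  have hZC : Subgroup.center G ≤ C := Subgroup.center_le_centralizer _
  have hne : ∀ x : C, ConjClasses.mk x = ConjClasses.mk x := fun _ => rfl
  refine (Nat.card_eq_of_bijective (fun z : Subgroup.center G =>
    (⟨ConjClasses.mk (⟨z, hZC z.2⟩ : C), fun g hg => ?_⟩ :
      {K : ConjClasses C // ∀ g : C, ConjClasses.mk g = K →
        ¬ p ∣ orderOf g ∧ g ∈ Subgroup.centralizer ((P : Subgroup C) : Set C)})) ⟨?_, ?_⟩).symm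
  · refine ⟨?_, Subgroup.mem_centralizer_iff.2 fun x _ => hcomm x g⟩
    obtain ⟨c, hc⟩ := isConj_iff.1 (ConjClasses.mk_eq_mk_iff_isConj.1 hg)
    rw [hcomm c g, mul_inv_cancel_right] at hc
    subst hc
    intro hdvd
    refine hZ (hdvd.trans ?_)
    rw [← Subgroup.orderOf_coe]
    show orderOf ((z : G)) ∣ _
    rw [Subgroup.orderOf_coe]
    exact orderOf_dvd_natCard z
  · intro z z' h
    have h1 : ConjClasses.mk (⟨z, hZC z.2⟩ : C) = ConjClasses.mk ⟨z', hZC z'.2⟩ :=
      congrArg Subtype.val h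
    obtain ⟨c, hc⟩ := isConj_iff.1 (ConjClasses.mk_eq_mk_iff_isConj.1 h1)
    rw [hcomm c _, mul_inv_cancel_right] at hc
    exact Subtype.ext (congrArg (fun x : C => (x : G)) hc)
  · rintro ⟨K, hK⟩
    obtain ⟨g, rfl⟩ := ConjClasses.mk_surjective K
    obtain ⟨hreg, -⟩ := hK g rfl
    exact ⟨⟨g, regular_mem_center hS (hC g g.2) (by rwa [Subgroup.orderOf_coe])⟩, rfl⟩

/-- Blocks with Sylow defect group are counted by the blocks of the Sylow centraliser. -/
theorem card_full_blocks (hM : IsPModular p M) (S : Sylow p G)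
    (hZ : ¬ p ∣ Nat.card (Subgroup.center G))
    (hC : ∀ c ∈ Subgroup.centralizer ((S : Subgroup G) : Set G),
      ∃ z ∈ Subgroup.center G, z⁻¹ * c ∈ (S : Subgroup G)) :
    Nat.card {B : Set (IrrCharacter G) //
        IsPBlock M B ∧ blockDefect p B = (Nat.card G).factorization p} =
      Nat.card (Subgroup.center G) := by
  haveI : Fact p.Prime := ⟨hM.1⟩
  rw [← card_blocks_centralizer hM S.2 hZ hC]
  choose Bf hBf using fun e : {e : CBlock (S : Subgroup G) // IsPBlock M e} =>
    exists_block_of_pair hM S.2 e.2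
  have hfull : ∀ e, blockDefect p (Bf e) = (Nat.card G).factorization p := by
    intro e
    have h1 := card_le_of_pair hM (hBf e)
    rw [S.card_eq_multiplicity, Nat.pow_le_pow_iff_right hM.1.one_lt] at h1
    exact le_antisymm (Nat.sub_le _ _) h1
  refine (Nat.card_eq_of_bijective (fun e => (⟨Bf e, (hBf e).2.1, hfull e⟩ :
    {B : Set (IrrCharacter G) //
      IsPBlock M B ∧ blockDefect p B = (Nat.card G).factorization p})) ⟨?_, ?_⟩).symm
  · intro e e' h
    have h' : Bf e = Bf e' := congrArg Subtype.val h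
    have hp' := hBf e'
    rw [← h'] at hp'
    have hmax := isMaximal_of_card hM hp'
      (S.card_eq_multiplicity.trans (by rw [hfull e]))
    obtain ⟨g, hg, hge⟩ := exists_normalizer_maximal hM (hBf e) hmax
    rw [(stabilizesBlock_iff hg e'.2).1
      (stabilizesBlock_of_centralizer hM S.2 hC e'.2 hg)] at hge
    exact (Subtype.ext (pbar_inj e'.2 e.2 hge)).symm
  · rintro ⟨B, hB, hfullB⟩
    obtain ⟨D, hD⟩ := exists_isDefectGroup hM hB
    obtain ⟨hDp, hDc, -⟩ := IsDefectGroup.props hM hB hD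
    obtain ⟨S', hS'⟩ := hDp.exists_le_sylow
    have hDS : D = (S' : Subgroup G) := Subgroup.eq_of_le_of_card_ge hS'
      (by rw [hDc, hfullB, S'.card_eq_multiplicity])
    obtain ⟨x, hx⟩ := MulAction.exists_smul_eq G S' S
    have hxD : D.map (MulAut.conj x).toMonoidHom = (S : Subgroup G) := by
      rw [← hx, hDS, Sylow.coe_subgroup_smul]; rfl
    obtain ⟨e, he⟩ := exists_pair_on_defect hM hB (hxD ▸ IsDefectGroup.map_conj hM hB hD x)
    exact ⟨⟨e, he.1.2⟩, Subtype.ext (pair_unique hM (hBf ⟨e, he.1.2⟩) he)⟩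

end Cfsg.Agent.Lib.SLBlocks
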