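import Cfsg.Agent.Lib.SLBlocks.Criterion
import Cfsg.Agent.Lib.Classical.Order
import Mathlib.Algebra.CharP.Lemmas
import Mathlib.LinearAlgebra.Matrix.SchurComplement
import Mathlib.Algebra.CharP.Reduced

/-!
# Radical `p`-subgroups of `SL_n` in the defining characteristic
-/

set_option autoImplicit false
set_option linter.unusedSectionVars false
set_option linter.style.haveILetI false

namespace Cfsg.Agent.Lib.SLBlocks

open Cfsg Cfsg.Agent.Lib.Block Cfsg.Agent.Lib.BrauerPairs Matrix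

universe u

variable {F : Type u} [Field F] {n : ℕ} {p : ℕ}

theorem mv_mul (x y : SpecialLinearGroup (Fin n) F) (v : Fin n → F) :
    ((x * y : SpecialLinearGroup (Fin n) F) : Matrix (Fin n) (Fin n) F) *ᵥ v =
      (x : Matrix (Fin n) (Fin n) F) *ᵥ ((y : Matrix (Fin n) (Fin n) F) *ᵥ v) :=
  (mulVec_mulVec v (x : Matrix (Fin n) (Fin n) F) (y : Matrix (Fin n) (Fin n) F)).symm

theorem mv_one (v : Fin n → F) :
    ((1 : SpecialLinearGroup (Fin n) F) : Matrix (Fin n) (Fin n) F) *ᵥ v = v :=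
  one_mulVec v

theorem mv_inv_cancel (x : SpecialLinearGroup (Fin n) F) (v : Fin n → F) :
    ((x⁻¹ : SpecialLinearGroup (Fin n) F) : Matrix (Fin n) (Fin n) F) *ᵥ
      ((x : Matrix (Fin n) (Fin n) F) *ᵥ v) = v := by
  rw [← mv_mul, inv_mul_cancel, mv_one]

theorem mv_cancel_inv (x : SpecialLinearGroup (Fin n) F) (v : Fin n → F) :
    (x : Matrix (Fin n) (Fin n) F) *ᵥ
      (((x⁻¹ : SpecialLinearGroup (Fin n) F) : Matrix (Fin n) (Fin n) F) *ᵥ v) = v := by
  rw [← mv_mul, mul_inv_cancel, mv_one]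

/-- The elements of `SL_n` trivial on `H` and on the quotient by `H`. -/
def stab2 (H : Submodule F (Fin n → F)) : Subgroup (SpecialLinearGroup (Fin n) F) where
  carrier := {x | (∀ v, (x : Matrix (Fin n) (Fin n) F) *ᵥ v - v ∈ H) ∧
    ∀ h ∈ H, (x : Matrix (Fin n) (Fin n) F) *ᵥ h = h}
  one_mem' := ⟨fun v => by rw [mv_one, sub_self]; exact H.zero_mem, fun h _ => mv_one h⟩
  mul_mem' := by
    rintro x y ⟨hx, hx'⟩ ⟨hy, hy'⟩
    refine ⟨fun v => ?_, fun h hh => ?_⟩
    · rw [mv_mul, ← sub_add_sub_cancel _ ((x : Matrix (Fin n) (Fin n) F) *ᵥ v) v, ← mulVec_sub]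
      exact add_mem ((hx' _ (hy v)).symm ▸ hy v) (hx v)
    · rw [mv_mul, hy' h hh, hx' h hh]
  inv_mem' := by
    rintro x ⟨hx, hx'⟩
    have h1 := mv_inv_cancel x
    refine ⟨fun v => ?_, fun h hh => ?_⟩
    · have h2 := hx v
      have h3 := h1 ((x : Matrix (Fin n) (Fin n) F) *ᵥ v - v)
      rw [hx' _ h2, mulVec_sub, h1 v] at h3
      rw [← neg_sub, h3]
      exact neg_mem h2
    · conv_lhs => rw [← hx' h hh]
      exact h1 h

theorem mem_stab2 {H : Submodule F (Fin n → F)} {x : SpecialLinearGroup (Fin n) F} :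
    x ∈ stab2 H ↔ (∀ v, (x : Matrix (Fin n) (Fin n) F) *ᵥ v - v ∈ H) ∧
      ∀ h ∈ H, (x : Matrix (Fin n) (Fin n) F) *ᵥ h = h := Iff.rfl

/-- A matrix trivial on `H` and on the quotient by `H` has `p`-th power one. -/
theorem pow_char_eq_one [Fact p.Prime] [CharP F p] {H : Submodule F (Fin n → F)}
    {N : Matrix (Fin n) (Fin n) F} (h1 : ∀ v, N *ᵥ v - v ∈ H) (h2 : ∀ h ∈ H, N *ᵥ h = h) :
    N ^ p = 1 := by
  rcases n.eq_zero_or_pos with rfl | hn
  · exact Subsingleton.elim _ _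
  haveI : Nonempty (Fin n) := ⟨⟨0, hn⟩⟩
  have hsq : (N - 1) ^ 2 = 0 := by
    refine Matrix.ext_of_mulVec_single fun i => ?_
    rw [pow_two, ← mulVec_mulVec, sub_mulVec N 1 (Pi.single i (1 : F)), one_mulVec, sub_mulVec,
      h2 _ (h1 _), one_mulVec, sub_self, zero_mulVec]
  have h3 : (N - 1) ^ p = 0 := pow_eq_zero_of_le (Fact.out : p.Prime).two_le hsq
  rwa [sub_pow_char_of_commute (p := p) (h := Commute.one_right N), one_pow, sub_eq_zero] at h3

theorem isPGroup_stab2 [Fact p.Prime] [CharP F p] (H : Submodule F (Fin n → F)) :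
    IsPGroup p (stab2 H) := fun x => ⟨1, by
  refine Subtype.ext (Subtype.ext ?_)
  rw [pow_one, SubmonoidClass.coe_pow]
  exact (Matrix.SpecialLinearGroup.coe_pow (x : SpecialLinearGroup (Fin n) F) p).trans (pow_char_eq_one x.2.1 x.2.2)⟩

/-- An element commuting with `stab2 H` is scalar modulo `stab2 H`. -/
theorem exists_center_mul [Fact p.Prime] [CharP F p] {H : Submodule F (Fin n → F)}
    (hbot : H ≠ ⊥) (htop : H ≠ ⊤) {c : SpecialLinearGroup (Fin n) F}
    (hc : ∀ x ∈ stab2 H, x * c = c * x) :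
    ∃ z ∈ Subgroup.center (SpecialLinearGroup (Fin n) F), z⁻¹ * c ∈ stab2 H := by
  obtain ⟨h₀, hh₀, hh₀0⟩ := Submodule.exists_mem_ne_zero_of_ne_bot hbot
  obtain ⟨v₁, hv₁⟩ : ∃ v, v ∉ H := by
    by_contra hcon
    push Not at hcon
    exact htop (Submodule.eq_top_iff'.2 hcon)
  set C := (c : Matrix (Fin n) (Fin n) F) with hC
  have key : ∀ f : (Fin n → F) →ₗ[F] F, H ≤ LinearMap.ker f → ∀ h ∈ H, ∀ v,
      f v • (C *ᵥ h) = f (C *ᵥ v) • h := by
    intro f hf h hh v
    let φ : Fin n → F := fun i => f (Pi.single i 1)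
    have hφ : ∀ w, φ ⬝ᵥ w = f w := fun w => by
      conv_rhs => rw [← Finset.univ_sum_single w, map_sum]
      refine Finset.sum_congr rfl fun i _ => ?_
      rw [show Pi.single i (w i) = w i • (Pi.single i (1 : F) : Fin n → F) by simp [← Pi.single_smul],
        map_smul, smul_eq_mul, mul_comm]
    have hdet : (1 + vecMulVec h φ).det = 1 := by
      rw [vecMulVec_eq Unit, det_one_add_replicateCol_mul_replicateRow, hφ,
        LinearMap.mem_ker.1 (hf hh), add_zero]
    have happ : ∀ w, (1 + vecMulVec h φ) *ᵥ w = w + f w • h := fun w => by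
      rw [add_mulVec, one_mulVec, vecMulVec_mulVec, hφ, op_smul_eq_smul]
    have ht : (⟨1 + vecMulVec h φ, hdet⟩ : SpecialLinearGroup (Fin n) F) ∈ stab2 H := by
      refine ⟨fun w => ?_, fun w hw => ?_⟩
      · show (1 + vecMulVec h φ) *ᵥ w - w ∈ H
        rw [happ, add_sub_cancel_left]
        exact H.smul_mem _ hh
      · show (1 + vecMulVec h φ) *ᵥ w = w
        rw [happ, LinearMap.mem_ker.1 (hf hw), zero_smul, add_zero]
    have h1 := congrArg (fun g : SpecialLinearGroup (Fin n) F =>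
      (g : Matrix (Fin n) (Fin n) F) *ᵥ v) (hc _ ht)
    replace h1 : (1 + vecMulVec h φ) *ᵥ (C *ᵥ v) = C *ᵥ ((1 + vecMulVec h φ) *ᵥ v) :=
      (mv_mul _ _ v).symm.trans (h1.trans (mv_mul _ _ v))
    rw [happ, happ, mulVec_add, mulVec_smul, add_right_inj] at h1
    exact h1.symm
  obtain ⟨f₀, hf₀v, hf₀⟩ := Submodule.exists_le_ker_of_notMem hv₁
  set a := f₀ (C *ᵥ v₁) / f₀ v₁ with ha
  have hcH : ∀ h ∈ H, C *ᵥ h = a • h := fun h hh => by
    rw [← inv_smul_smul₀ hf₀v (C *ᵥ h), key f₀ hf₀ h hh v₁, smul_smul, ha, div_eq_inv_mul]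
  have hcV : ∀ v, C *ᵥ v - a • v ∈ H := by
    intro v
    by_contra hn'
    obtain ⟨f, hfv, hf⟩ := Submodule.exists_le_ker_of_notMem hn'
    have h1 := key f hf h₀ hh₀ v
    rw [hcH _ hh₀, smul_smul] at h1
    refine hfv ?_
    rw [map_sub, map_smul, smul_eq_mul, mul_comm, smul_left_injective F hh₀0 h1, sub_self]
  have hcinv := mv_inv_cancel c
  have ha0 : a ≠ 0 := fun h0 => hh₀0 (by
    have := hcinv h₀
    rwa [hcH _ hh₀, h0, zero_smul, mulVec_zero, eq_comm] at this)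
  have hN1 : ∀ v, (a⁻¹ • C) *ᵥ v - v ∈ H := fun v => by
    rw [smul_mulVec, ← inv_smul_smul₀ ha0 v, ← smul_sub, inv_smul_smul₀ ha0 v]
    exact H.smul_mem _ (hcV v)
  have hN2 : ∀ h ∈ H, (a⁻¹ • C) *ᵥ h = h := fun h hh => by
    rw [smul_mulVec, hcH h hh, inv_smul_smul₀ ha0]
  have han : a ^ n = 1 := by
    have h1 := congrArg Matrix.det (pow_char_eq_one (p := p) hN1 hN2)
    rw [det_one, det_pow, Matrix.det_smul, Fintype.card_fin, hC, c.2, mul_one, inv_pow, inv_pow,
      inv_eq_one] at h1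
    exact frobenius_inj F p (by simpa [frobenius_def] using h1)
  let z : SpecialLinearGroup (Fin n) F := ⟨Matrix.scalar (Fin n) a, by
    simp [Matrix.scalar_apply, Matrix.det_diagonal, han]⟩
  have hzc : z ∈ Subgroup.center (SpecialLinearGroup (Fin n) F) :=
    Matrix.SpecialLinearGroup.mem_center_iff.2 ⟨a, by rw [Fintype.card_fin, han], rfl⟩
  refine ⟨z, hzc, ?_⟩
  have hzN : ∀ v, ((z⁻¹ * c : SpecialLinearGroup (Fin n) F) : Matrix (Fin n) (Fin n) F) *ᵥ v =
      (a⁻¹ • C) *ᵥ v := fun v => by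
    have hz : (z : Matrix (Fin n) (Fin n) F) *ᵥ (a⁻¹ • (C *ᵥ v)) = C *ᵥ v := by
      show Matrix.scalar (Fin n) a *ᵥ _ = _
      ext i
      simp [Matrix.scalar_apply, mulVec_diagonal, ha0]
    rw [mv_mul, smul_mulVec, ← hC]
    conv_lhs => rw [← hz, mv_inv_cancel]
  exact ⟨fun v => (hzN v).symm ▸ hN1 v, fun h hh => (hzN h).trans (hN2 h hh)⟩

/-- The vectors fixed by a subgroup. -/
def fixSp (D : Subgroup (SpecialLinearGroup (Fin n) F)) : Submodule F (Fin n → F) where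
  carrier := {v | ∀ d ∈ D, (d : Matrix (Fin n) (Fin n) F) *ᵥ v = v}
  zero_mem' := fun d _ => mulVec_zero _
  add_mem' := fun {v w} hv hw d hd => by rw [mulVec_add, hv d hd, hw d hd]
  smul_mem' := fun a v hv d hd => by rw [mulVec_smul, hv d hd]

variable [Finite F] [Fact p.Prime] [CharP F p]

theorem fixSp_ne_bot (hn : 0 < n) {D : Subgroup (SpecialLinearGroup (Fin n) F)}
    (hD : IsPGroup p D) : fixSp D ≠ ⊥ := by
  letI : MulAction D (Fin n → F) :=
    { smul := fun d v => ((d : SpecialLinearGroup (Fin n) F) : Matrix (Fin n) (Fin n) F) *ᵥ v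
      one_smul := fun v => by
        show ((1 : SpecialLinearGroup (Fin n) F) : Matrix (Fin n) (Fin n) F) *ᵥ v = v
        exact mv_one v
      mul_smul := fun d e v => by
        show ((d * e : SpecialLinearGroup (Fin n) F) : Matrix (Fin n) (Fin n) F) *ᵥ v = _
        exact mv_mul _ _ v }
  have hdvd : p ∣ Nat.card (Fin n → F) := by
    haveI : Nonempty (Fin n) := ⟨⟨0, hn⟩⟩
    haveI := Fintype.ofFinite F
    obtain ⟨a, -, hq⟩ := FiniteField.card F p
    rw [Nat.card_fun, Nat.card_eq_fintype_card (α := Fin n), Nat.card_eq_fintype_card, hq,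
      Fintype.card_fin, ← pow_mul]
    exact dvd_pow_self p (Nat.mul_ne_zero a.pos.ne' hn.ne')
  obtain ⟨v, hv, hv0⟩ := hD.exists_fixed_point_of_prime_dvd_card_of_fixed_point (Fin n → F) hdvd
    (a := (0 : Fin n → F)) (fun d => mulVec_zero _)
  exact (Submodule.ne_bot_iff _).2 ⟨v, fun d hd => hv ⟨d, hd⟩, hv0.symm⟩

theorem fixSp_ne_top {D : Subgroup (SpecialLinearGroup (Fin n) F)} (hD : D ≠ ⊥) :
    fixSp D ≠ ⊤ := fun h => hD ((Subgroup.eq_bot_iff_forall _).2 fun d hd =>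
  Subtype.ext (Matrix.ext_of_mulVec_single fun i => by
    have h1 : (Pi.single i (1 : F) : Fin n → F) ∈ fixSp D := h.symm ▸ Submodule.mem_top
    rw [h1 d hd]; exact (mv_one _).symm))

theorem normalizer_le_stab2 (D : Subgroup (SpecialLinearGroup (Fin n) F)) :
    Subgroup.normalizer (D : Set (SpecialLinearGroup (Fin n) F)) ≤
      Subgroup.normalizer (stab2 (fixSp D) : Set (SpecialLinearGroup (Fin n) F)) := by
  have key : ∀ g ∈ Subgroup.normalizer (D : Set (SpecialLinearGroup (Fin n) F)),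
      ∀ x ∈ stab2 (fixSp D), g * x * g⁻¹ ∈ stab2 (fixSp D) := by
    intro g hg x hx
    have hinv : ∀ a ∈ Subgroup.normalizer (D : Set (SpecialLinearGroup (Fin n) F)),
        ∀ h ∈ fixSp D, (a : Matrix (Fin n) (Fin n) F) *ᵥ h ∈ fixSp D := by
      intro a ha h hh d hd
      have h1 : a⁻¹ * d * a ∈ D := by
        have := (Subgroup.mem_normalizer_iff.1 (inv_mem ha) d).1 hd
        rwa [inv_inv] at this
      rw [← mv_mul, show d * a = a * (a⁻¹ * d * a) by group, mv_mul, hh _ h1]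
    have hcancel := mv_cancel_inv g
    refine ⟨fun v => ?_, fun h hh => ?_⟩
    · rw [mv_mul, mv_mul]
      have h1 := hinv g hg _
        (hx.1 (((g⁻¹ : SpecialLinearGroup (Fin n) F) : Matrix (Fin n) (Fin n) F) *ᵥ v))
      rwa [mulVec_sub, hcancel] at h1
    · rw [mv_mul, mv_mul,
        hx.2 _ (hinv g⁻¹ (inv_mem hg) h hh), hcancel]
  intro g hg
  rw [Subgroup.mem_normalizer_iff]
  refine fun x => ⟨key g hg x, fun hx => ?_⟩
  simpa [mul_assoc] using key g⁻¹ (inv_mem hg) _ hx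

theorem centralizer_mod_center (hn : 0 < n) {D : Subgroup (SpecialLinearGroup (Fin n) F)}
    (hD : IsPGroup p D) (hD1 : D ≠ ⊥) (hA : stab2 (fixSp D) ≤ D) :
    ∀ c ∈ Subgroup.centralizer (D : Set (SpecialLinearGroup (Fin n) F)),
      ∃ z ∈ Subgroup.center (SpecialLinearGroup (Fin n) F), z⁻¹ * c ∈ D := fun c hc => by
  obtain ⟨z, hz, hzc⟩ := exists_center_mul (p := p) (fixSp_ne_bot hn hD) (fixSp_ne_top hD1)
    (c := c) fun x hx => Subgroup.mem_centralizer_iff.1 hc x (hA hx)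
  exact ⟨z, hz, hA hzc⟩

theorem center_coprime (hn : 0 < n) :
    ¬ p ∣ Nat.card (Subgroup.center (SpecialLinearGroup (Fin n) F)) := by
  haveI : Nonempty (Fin n) := ⟨⟨0, hn⟩⟩
  haveI := Fintype.ofFinite F
  rw [Classical.card_center_SL, Nat.dvd_gcd_iff]
  rintro ⟨-, h⟩
  obtain ⟨a, -, hq⟩ := FiniteField.card F p
  have h1 : p ∣ Fintype.card F := hq ▸ dvd_pow_self p a.pos.ne'
  have h2 := Nat.dvd_sub h1 h
  rw [Nat.sub_sub_self Fintype.card_pos, Nat.dvd_one] at h2
  exact (Fact.out : p.Prime).ne_one h2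

/-- Every block of `SL_n(q)` of nonzero defect has full defect. -/
theorem blockDefect_full {M : Ideal AlgInt} [M.IsPrime] (hM : IsPModular p M) (hn : 0 < n)
    {B : Set (IrrCharacter (SpecialLinearGroup (Fin n) F))} (hB : IsPBlock M B)
    (h0 : blockDefect p B ≠ 0) :
    blockDefect p B = (Nat.card (SpecialLinearGroup (Fin n) F)).factorization p := by
  obtain ⟨D, hD⟩ := exists_isDefectGroup hM hB
  obtain ⟨hDp, hDc, -⟩ := IsDefectGroup.props hM hB hD
  have hD1 : D ≠ ⊥ := fun h => by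
    rw [h, Subgroup.card_bot] at hDc
    exact h0 ((Nat.pow_eq_one.1 hDc.symm).resolve_left hM.1.one_lt.ne')
  exact defect_full hM (center_coprime hn) hB hD (centralizer_mod_center hn hDp hD1
    (le_defect_of_normalizer_le hM hB hD (isPGroup_stab2 _) (normalizer_le_stab2 D)))

/-- A Sylow subgroup contains the stabiliser of its fixed space. -/
theorem centralizer_sylow (hn : 0 < n) (S : Sylow p (SpecialLinearGroup (Fin n) F))
    (hS : (S : Subgroup (SpecialLinearGroup (Fin n) F)) ≠ ⊥) :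
    ∀ c ∈ Subgroup.centralizer ((S : Subgroup (SpecialLinearGroup (Fin n) F)) :
        Set (SpecialLinearGroup (Fin n) F)),
      ∃ z ∈ Subgroup.center (SpecialLinearGroup (Fin n) F),
        z⁻¹ * c ∈ (S : Subgroup (SpecialLinearGroup (Fin n) F)) := by
  refine centralizer_mod_center hn S.2 hS ?_
  obtain ⟨T, hT⟩ : ∃ T, T = stab2 (fixSp (S : Subgroup (SpecialLinearGroup (Fin n) F))) := ⟨_, rfl⟩
  have hTp : IsPGroup p T := hT ▸ isPGroup_stab2 _
  have hTN : (S : Subgroup (SpecialLinearGroup (Fin n) F)) ≤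
      Subgroup.normalizer (T : Set (SpecialLinearGroup (Fin n) F)) :=
    hT ▸ Subgroup.le_normalizer.trans (normalizer_le_stab2 _)
  rw [← hT]
  have h : IsPGroup p ((S : Subgroup (SpecialLinearGroup (Fin n) F)) ⊔ T :
      Subgroup (SpecialLinearGroup (Fin n) F)) := S.2.to_sup_of_normal_right' hTp hTN
  have h2 := S.is_maximal' h le_sup_left
  exact h2 ▸ le_sup_right

end Cfsg.Agent.Lib.SLBlocks
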