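import Cfsg.Agent.Lib.SLBlocks.Linear
import Cfsg.Agent.Lib.GLFlag.Irr
import Cfsg.Agent.Lib.Block.DefectTwo
import Cfsg.Agent.Lib.Block.NormalDefect
import Cfsg.Agent.Lib.CharClifford.Basic

/-!
# A block of defect zero of `SL_n`
-/

set_option autoImplicit false
set_option linter.unusedSectionVars false
set_option linter.style.haveILetI false

namespace Cfsg.Agent.Lib.SLBlocks

open Cfsg Cfsg.Agent.Lib.Block Cfsg.Agent.Lib.GLFlag Matrix Finset

universe u

theorem sum_range_succ_eq_choose (m : ℕ) : ∑ i ∈ Finset.range m, (1 + i) = (m + 1).choose 2 := by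
  induction m with
  | zero => rfl
  | succ m ih =>
    rw [Finset.sum_range_succ, ih, Nat.choose_succ_succ' (m + 1) 1, Nat.choose_one_right,
      show (1 + 1 : ℕ) = 2 from rfl]
    omega

theorem sum_pairs (m : ℕ) :
    ∑ i : Fin m, ∑ j : Fin m, (if i < j then 1 + (i : ℕ) else 0) = (m + 1).choose 3 := by
  induction m with
  | zero => rfl
  | succ m ih =>
    rw [Fin.sum_univ_castSucc]
    simp only [Fin.sum_univ_castSucc, Fin.castSucc_lt_castSucc_iff, Fin.val_castSucc,
      not_lt.2 (Fin.le_last _), if_false, lt_irrefl, add_zero, Finset.sum_const_zero,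
      Fin.castSucc_lt_last, if_true]
    rw [Finset.sum_add_distrib, ih, Fin.sum_univ_eq_sum_range (fun i => 1 + i), sum_range_succ_eq_choose,
      Nat.choose_succ_succ' (m + 1) 2, add_comm]

variable {F : Type u} [Field F] [Fintype F] {p : ℕ} [Fact p.Prime] [CharP F p]

theorem qf_mod (r : ℕ) (hr : 0 < r) : ¬ p ∣ qf (Fintype.card F) r := by
  obtain ⟨r, rfl⟩ : ∃ r', r = r' + 1 := ⟨r - 1, by omega⟩
  obtain ⟨a, -, hq⟩ := FiniteField.card F p
  intro h
  rw [qf, Finset.sum_range_succ', pow_zero] at h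
  have h1 : p ∣ ∑ l ∈ Finset.range r, Fintype.card F ^ (l + 1) := Finset.dvd_sum fun l _ =>
    dvd_pow (hq ▸ dvd_pow_self p a.pos.ne') l.succ_ne_zero
  exact (Fact.out : p.Prime).not_dvd_one ((Nat.dvd_add_right h1).1 h)

theorem qfac_factorization (r : ℕ) : (qfac (Fintype.card F) r).factorization p = 0 := by
  refine Nat.factorization_eq_zero_of_not_dvd fun h => ?_
  obtain ⟨j, -, hj⟩ := (Nat.Prime.prime Fact.out).exists_mem_finset_dvd h
  exact qf_mod (F := F) (j + 1) j.succ_pos hj

/-- The degree of the Steinberg character of `GL_n`. -/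
theorem steinberg_degree (n : ℕ) {d : ℕ}
    (hd : unipotentCharacterGL n F (fun _ => 1) 1 = (d : ℂ)) :
    d * (Fintype.card F ^ n.choose 3 * ∏ i : Fin n, qfac (Fintype.card F) (1 + (i : ℕ))) =
      qfac (Fintype.card F) n * (Fintype.card F ^ (n + 1).choose 3 *
        ∏ i : Fin n, ∏ j ∈ Finset.univ.filter (fun j : Fin n => i < j),
          qf (Fintype.card F) ((j : ℕ) - i)) := by
  have h := unipotent_one_mul (F := F) (ν := fun _ : Fin n => 1) (by simp)
  rw [hd] at h
  have h2 : ∀ i j : Fin n, i < j →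
      ((qf (Fintype.card F) (1 + j.val) : ℂ) - (qf (Fintype.card F) (1 + i.val) : ℂ)) =
        ((Fintype.card F ^ (1 + i.val) * qf (Fintype.card F) (j.val - i.val) : ℕ) : ℂ) := by
    intro i j hij
    have h3 := qf_add (Fintype.card F) (1 + i.val) (j.val - i.val)
    rw [show 1 + i.val + (j.val - i.val) = 1 + j.val by have : (i : ℕ) < j := hij; omega] at h3
    rw [h3, Nat.cast_add, add_sub_cancel_left]
  rw [Finset.prod_congr rfl fun i _ => Finset.prod_congr rfl fun j hj =>
    h2 i j (Finset.mem_filter.1 hj).2] at h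
  simp only [← Nat.cast_prod, ← Nat.cast_mul, ← Nat.cast_pow, Nat.cast_inj] at h
  rw [← mul_assoc, h]
  congr 1
  rw [← sum_pairs, ← Finset.prod_pow_eq_pow_sum, ← Finset.prod_mul_distrib]
  refine Finset.prod_congr rfl fun i _ => ?_
  rw [Finset.prod_mul_distrib, Finset.prod_pow_eq_pow_sum]
  congr 1
  rw [Finset.sum_filter]

theorem steinberg_degree_factorization (n : ℕ) {d : ℕ}
    (hd : unipotentCharacterGL n F (fun _ => 1) 1 = (d : ℂ)) :
    d.factorization p = (Fintype.card F).factorization p * n.choose 2 := by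
  have hq1 : 1 ≤ Fintype.card F := Fintype.card_pos
  have hq : Fintype.card F ≠ 0 := Fintype.card_ne_zero
  have h := steinberg_degree n hd
  have hP : ∀ r, qfac (Fintype.card F) r ≠ 0 := fun r => (qfac_pos hq1 r).ne'
  have hR : ∀ i : Fin n, ∀ j ∈ Finset.univ.filter (fun j : Fin n => i < j),
      ¬ p ∣ qf (Fintype.card F) ((j : ℕ) - i) := fun i j hj =>
    qf_mod _ (Nat.sub_pos_of_lt (Finset.mem_filter.1 hj).2)
  have hR0 : ¬ p ∣ ∏ i : Fin n, ∏ j ∈ Finset.univ.filter (fun j : Fin n => i < j),
      qf (Fintype.card F) ((j : ℕ) - i) := fun hdv => by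
    obtain ⟨i, -, hi⟩ := (Nat.Prime.prime Fact.out).exists_mem_finset_dvd hdv
    obtain ⟨j, hj, hj'⟩ := (Nat.Prime.prime Fact.out).exists_mem_finset_dvd hi
    exact hR i j hj hj'
  have hR00 : (∏ i : Fin n, ∏ j ∈ Finset.univ.filter (fun j : Fin n => i < j),
      qf (Fintype.card F) ((j : ℕ) - i)) ≠ 0 := fun h0 => hR0 (by rw [h0]; exact dvd_zero p)
  have hd0 : d ≠ 0 := by
    rintro rfl
    rw [zero_mul, eq_comm, mul_eq_zero, mul_eq_zero] at h
    rcases h with h | h | h
    · exact hP n h
    · exact pow_ne_zero _ hq h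
    · exact hR00 h
  have hL : ∀ i ∈ (Finset.univ : Finset (Fin n)), qfac (Fintype.card F) (1 + (i : ℕ)) ≠ 0 :=
    fun i _ => hP _
  have := congrArg (fun m : ℕ => m.factorization p) h
  rw [Nat.factorization_mul hd0 (mul_ne_zero (pow_ne_zero _ hq) (Finset.prod_ne_zero_iff.2 hL)),
    Nat.factorization_mul (pow_ne_zero _ hq) (Finset.prod_ne_zero_iff.2 hL),
    Nat.factorization_mul (hP n) (mul_ne_zero (pow_ne_zero _ hq) hR00),
    Nat.factorization_mul (pow_ne_zero _ hq) (hR00),
    Nat.factorization_prod hL, Nat.factorization_pow, Nat.factorization_pow] at this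
  simp only [Finsupp.add_apply, Finsupp.smul_apply, smul_eq_mul, Finsupp.finsetSum_apply,
    qfac_factorization, Finset.sum_const_zero, add_zero, zero_add,
    Nat.factorization_eq_zero_of_not_dvd hR0] at this
  rw [Nat.choose_succ_succ' n 2, add_mul, show (2 + 1 : ℕ) = 3 from rfl] at this
  rw [mul_comm]
  omega

theorem card_GL_factorization (n : ℕ) :
    (Nat.card (GL (Fin n) F)).factorization p = (Fintype.card F).factorization p * n.choose 2 := by
  have hq := Fintype.one_lt_card (α := F)
  have hq1 : Fintype.card F - 1 ≠ 0 := by omega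
  rw [card_GL_fin, Nat.factorization_mul (mul_ne_zero (pow_ne_zero _ Fintype.card_ne_zero)
      (pow_ne_zero _ hq1)) (qfac_pos hq.le n).ne',
    Nat.factorization_mul (pow_ne_zero _ Fintype.card_ne_zero) (pow_ne_zero _ hq1),
    Nat.factorization_pow, Nat.factorization_pow]
  have h1 : (Fintype.card F - 1).factorization p = 0 := by
    refine Nat.factorization_eq_zero_of_not_dvd fun h => ?_
    obtain ⟨a, -, hq'⟩ := FiniteField.card F p
    have h2 := Nat.dvd_sub (hq' ▸ dvd_pow_self p a.pos.ne' : p ∣ Fintype.card F) h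
    rw [Nat.sub_sub_self hq.le, Nat.dvd_one] at h2
    exact (Fact.out : p.Prime).ne_one h2
  simp [qfac_factorization, h1, mul_comm]

theorem units_factorization : (Nat.card Fˣ).factorization p = 0 := by
  rw [Classical.card_units_field]
  refine Nat.factorization_eq_zero_of_not_dvd fun h => ?_
  obtain ⟨a, -, hq'⟩ := FiniteField.card F p
  have h2 := Nat.dvd_sub (hq' ▸ dvd_pow_self p a.pos.ne' : p ∣ Fintype.card F) h
  rw [Nat.sub_sub_self Fintype.card_pos, Nat.dvd_one] at h2
  exact (Fact.out : p.Prime).ne_one h2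

/-- A constituent of the restriction of the Steinberg character has full `p`-part degree. -/
theorem exists_full_degree (n : ℕ) (hn : 0 < n) :
    ∃ (χ : IrrCharacter (SpecialLinearGroup (Fin n) F)) (d : ℕ),
      unipotentCharacterGL n F (fun _ => 1) 1 = (d : ℂ) ∧
      charDegree (χ : SpecialLinearGroup (Fin n) F → ℂ) ∣ d ∧
      (charDegree (χ : SpecialLinearGroup (Fin n) F → ℂ)).factorization p =
        (Nat.card (SpecialLinearGroup (Fin n) F)).factorization p := by
  classical
  haveI : Nonempty (Fin n) := ⟨⟨0, hn⟩⟩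
  haveI := Fintype.ofFinite (GL (Fin n) F)
  let θ : IrrCharacter (GL (Fin n) F) :=
    ⟨_, isIrr_unipotent (F := F) (fun _ : Fin n => 1) monotone_const (by simp)⟩
  set N := (Matrix.SpecialLinearGroup.toGL :
    SpecialLinearGroup (Fin n) F →* GL (Fin n) F).range with hN
  haveI : N.Normal := by
    rw [hN, ← Classical.det_ker_eq_range_toGL]
    infer_instance
  haveI := Fintype.ofFinite N
  obtain ⟨ξ, hξ⟩ := exists_constituent_restrict N θ
  set e : SpecialLinearGroup (Fin n) F ≃* N :=
    MonoidHom.ofInjective Classical.toGL_injective with he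
  let χ : IrrCharacter (SpecialLinearGroup (Fin n) F) :=
    ⟨_, CharClifford.isIrrCharacter_comp_equiv e ξ.2⟩
  have hdeg : charDegree (χ : SpecialLinearGroup (Fin n) F → ℂ) = charDegree (ξ : N → ℂ) := by
    simp [χ, charDegree, Function.comp]
  obtain ⟨m, hm⟩ := Char.classInner_natCast
    (Char.isCharacter_restrict (Char.isCharacter_of_isIrr θ.2) N) (Char.isCharacter_of_isIrr ξ.2)
  have hθ : unipotentCharacterGL n F (fun _ => 1) 1 =
      (charDegree (θ : GL (Fin n) F → ℂ) : ℂ) :=
    Char.apply_one_eq_charDegree (Char.isCharacter_of_isIrr θ.2)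
  refine ⟨χ, charDegree (θ : GL (Fin n) F → ℂ), hθ, ?_, ?_⟩
  · rw [hdeg]
    have h1 := Char.clifford_degree N θ.2 ξ.2 hξ
    rw [hm, irr_one_eq_natCast, irr_one_eq_natCast] at h1
    exact ⟨m * (Char.inertia N (ξ : N → ℂ)).index, by
      rw [mul_comm]; exact_mod_cast h1⟩
  · rw [hdeg]
    have hcard : (Nat.card (SpecialLinearGroup (Fin n) F)).factorization p =
        (Fintype.card F).factorization p * n.choose 2 := by
      rw [← card_GL_factorization (p := p) (F := F), Classical.card_GL_eq_units_mul_card_SL,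
        Nat.factorization_mul Nat.card_pos.ne' Nat.card_pos.ne', Finsupp.add_apply,
        units_factorization, zero_add]
    refine le_antisymm ((factorization_charDegree_le ξ p).trans_eq ?_) ?_
    · rw [Nat.card_congr e.symm.toEquiv]
    · rw [hcard, ← steinberg_degree_factorization n hθ]
      have h1 := NormalDefect.charDegree_dvd_index_mul N θ ξ hξ
      have hidx : N.index.factorization p = 0 := by
        have h2 := N.card_mul_index
        rw [← Nat.card_congr e.toEquiv, Classical.card_GL_eq_units_mul_card_SL, mul_comm (Nat.card Fˣ)]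
          at h2
        rw [Nat.eq_of_mul_eq_mul_left Nat.card_pos h2]
        exact units_factorization
      have h3 := (Nat.factorization_le_iff_dvd (charDegree_pos θ).ne'
        (mul_ne_zero Subgroup.index_ne_zero_of_finite (charDegree_pos ξ).ne')).2 h1 p
      rwa [Nat.factorization_mul Subgroup.index_ne_zero_of_finite (charDegree_pos ξ).ne',
        Finsupp.add_apply, hidx, zero_add] at h3

/-- There is a block of defect zero containing a character of full `p`-part degree. -/
theorem exists_defectZero {M : Ideal AlgInt} [M.IsPrime] (hM : IsPModular p M) (n : ℕ) (hn : 0 < n) :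
    ∃ (B : Set (IrrCharacter (SpecialLinearGroup (Fin n) F))) (χ : IrrCharacter _) (d : ℕ),
      IsPBlock M B ∧ blockDefect p B = 0 ∧ χ ∈ B ∧
      unipotentCharacterGL n F (fun _ => 1) 1 = (d : ℂ) ∧
      charDegree (χ : SpecialLinearGroup (Fin n) F → ℂ) ∣ d := by
  obtain ⟨χ, d, hd, hdvd, hfac⟩ := exists_full_degree (F := F) (p := p) n hn
  refine ⟨blockOf M (χ : SpecialLinearGroup (Fin n) F → ℂ), χ, d, ⟨χ, rfl⟩, ?_, mem_blockOf_self χ,
    hd, hdvd⟩
  haveI := Fintype.ofFinite (SpecialLinearGroup (Fin n) F)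
  refine blockDefect_eq_zero_of_vanish hM ⟨χ, rfl⟩ (mem_blockOf_self χ) fun g hg =>
    Char.apply_eq_zero_of_defect_zero χ.2 hM.1 ?_ hg
  exact (hM.1.pow_dvd_iff_le_factorization (charDegree_pos χ).ne').2 hfac.ge

end Cfsg.Agent.Lib.SLBlocks
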