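import Cfsg.Agent.Lib.SLBlocks.Unique
import Cfsg.Agent.Lib.SLBlocks.Steinberg

/-!
# The blocks of `SL_n` in the defining characteristic
-/

set_option autoImplicit false
set_option linter.unusedSectionVars false
set_option linter.style.haveILetI false

namespace Cfsg.Agent.Lib.SLBlocks

open Cfsg Cfsg.Agent.Lib.Block Matrix

universe u

/-- All members of a block of defect zero coincide. -/
theorem eq_of_defect_zero {G : Type u} [Group G] [Finite G] {p : ℕ} {M : Ideal AlgInt} [M.IsPrime]
    (hM : IsPModular p M) {B : Set (IrrCharacter G)} (hB : IsPBlock M B) (h0 : blockDefect p B = 0)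
    {χ φ : IrrCharacter G} (hχ : χ ∈ B) (hφ : φ ∈ B) : φ = χ := by
  classical
  haveI := Fintype.ofFinite G
  have hmin : ∀ ψ ∈ B, (Nat.card G).factorization p ≤ (charDegree (ψ : G → ℂ)).factorization p :=
    fun ψ hψ => (Nat.sub_eq_zero_iff_le.1 h0).trans (Nat.sInf_le ⟨ψ, hψ, rfl⟩)
  have hh : blockHeight p B (χ : G → ℂ) = 0 := Nat.sub_eq_zero_iff_le.2
    (((factorization_charDegree_le χ p).trans (le_csInf ⟨_, χ, hχ, rfl⟩ (by
      rintro _ ⟨ψ, hψ, rfl⟩
      exact hmin ψ hψ))))
  have hvan : ∀ x : G, p ∣ orderOf x → (φ : G → ℂ) x = 0 := fun x hx =>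
    Char.apply_eq_zero_of_defect_zero φ.2 hM.1
      ((hM.1.pow_dvd_iff_le_factorization (charDegree_pos φ).ne').2 (hmin φ hφ)) hx
  have hne := regInner_ne_zero_of_height_zero hM hB hχ hφ hh
  have hreg : regInner p (φ : G → ℂ) (χ : G → ℂ) = classInner (φ : G → ℂ) (χ : G → ℂ) := by
    unfold regInner
    congr 1
    funext x
    split_ifs with hx
    · rw [hvan x hx]
    · rfl
  rw [hreg] at hne
  by_contra h
  exact hne (Char.classInner_irr_ne φ.2 χ.2 fun e => h (Subtype.ext e))

variable {F : Type u} [Field F] [Fintype F] {p : ℕ} [Fact p.Prime] [CharP F p]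
  {M : Ideal AlgInt} [M.IsPrime] {n : ℕ}

theorem card_SL_factorization (hn : 0 < n) :
    (Nat.card (SpecialLinearGroup (Fin n) F)).factorization p =
      (Fintype.card F).factorization p * n.choose 2 := by
  haveI : Nonempty (Fin n) := ⟨⟨0, hn⟩⟩
  rw [← card_GL_factorization (p := p) (F := F), Classical.card_GL_eq_units_mul_card_SL,
    Nat.factorization_mul Nat.card_pos.ne' Nat.card_pos.ne', Finsupp.add_apply,
    units_factorization, zero_add]

theorem factorization_pos (hn : 2 ≤ n) :
    0 < (Nat.card (SpecialLinearGroup (Fin n) F)).factorization p := by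
  rw [card_SL_factorization (by omega)]
  obtain ⟨a, hp, hq⟩ := FiniteField.card F p
  rw [hq, hp.factorization_pow, Finsupp.single_eq_same]
  exact Nat.mul_pos a.pos (Nat.choose_pos hn)

theorem card_defectZero (hM : IsPModular p M) (hn : 2 ≤ n) :
    Nat.card {B : Set (IrrCharacter (SpecialLinearGroup (Fin n) F)) //
      IsPBlock M B ∧ blockDefect p B = 0} = 1 := by
  obtain ⟨B, χ, d, hB, h0, -, -, -⟩ := exists_defectZero (F := F) hM n (by omega)
  rw [Nat.card_eq_one_iff_unique]
  exact ⟨⟨fun a b => Subtype.ext (defectZero_unique hM a.2.1 b.2.1 a.2.2 b.2.2)⟩, ⟨⟨B, hB, h0⟩⟩⟩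

theorem sylow_ne_bot (hn : 2 ≤ n) (S : Sylow p (SpecialLinearGroup (Fin n) F)) :
    (S : Subgroup (SpecialLinearGroup (Fin n) F)) ≠ ⊥ := fun h => by
  have h1 := S.card_eq_multiplicity
  rw [h, Subgroup.card_bot] at h1
  have := factorization_pos (F := F) (p := p) hn
  rcases Nat.pow_eq_one.1 h1.symm with h2 | h2
  · exact (Fact.out : p.Prime).ne_one h2
  · omega

theorem card_fullDefect (hM : IsPModular p M) (hn : 2 ≤ n) :
    Nat.card {B : Set (IrrCharacter (SpecialLinearGroup (Fin n) F)) //
      IsPBlock M B ∧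
        blockDefect p B = (Nat.card (SpecialLinearGroup (Fin n) F)).factorization p} =
      Nat.gcd n (Fintype.card F - 1) := by
  haveI : Nonempty (Fin n) := ⟨⟨0, by omega⟩⟩
  obtain ⟨S⟩ : Nonempty (Sylow p (SpecialLinearGroup (Fin n) F)) := inferInstance
  rw [card_full_blocks hM S (center_coprime (by omega))
    (centralizer_sylow (by omega) S (sylow_ne_bot hn S)), Classical.card_center_SL, Fintype.card_fin]

theorem card_blocks (hM : IsPModular p M) (hn : 2 ≤ n) :
    Nat.card {B : Set (IrrCharacter (SpecialLinearGroup (Fin n) F)) // IsPBlock M B} =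
      Nat.gcd n (Fintype.card F - 1) + 1 := by
  classical
  rw [← card_fullDefect (F := F) hM hn, ← card_defectZero (F := F) hM hn, add_comm, ← Nat.card_sum]
  have hpos := factorization_pos (F := F) (p := p) hn
  refine Nat.card_congr ((Equiv.sumCompl fun B : {B : Set (IrrCharacter
    (SpecialLinearGroup (Fin n) F)) // IsPBlock M B} => blockDefect p B.1 = 0).symm.trans
      (Equiv.sumCongr (Equiv.subtypeSubtypeEquivSubtypeInter _ fun B => blockDefect p B = 0)
        ((Equiv.subtypeSubtypeEquivSubtypeInter _ fun B => ¬ blockDefect p B = 0).trans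
          (Equiv.subtypeEquivRight fun B => ⟨fun h => ⟨h.1,
            blockDefect_full hM (by omega) h.1 h.2⟩, fun h => ⟨h.1, by rw [h.2]; omega⟩⟩))))

end Cfsg.Agent.Lib.SLBlocks
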